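import Mathlib

/-! The Picardification of a symmetric monoidal groupoid, built as a free object. -/

set_option autoImplicit false

universe v v' u u'

namespace Groth.Agent.Picardification

open CategoryTheory MonoidalCategory Functor.LaxMonoidal

variable (A : Type u) [Category.{v} A] [MonoidalCategory A] [SymmetricCategory A]

/-- Formal objects. -/
inductive Obj : Type u
  | of : A → Obj
  | one : Obj
  | ten : Obj → Obj → Obj
  | neg : Obj → Obj

variable {A}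

/-- Formal morphisms. -/
inductive Hom : Obj A → Obj A → Type (max u v)
  | id (X : Obj A) : Hom X X
  | comp {X Y Z : Obj A} (f : Hom X Y) (g : Hom Y Z) : Hom X Z
  | sym {X Y : Obj A} (f : Hom X Y) : Hom Y X
  | tens {W X Y Z : Obj A} (f : Hom W Y) (g : Hom X Z) : Hom (W.ten X) (Y.ten Z)
  | assoc (X Y Z : Obj A) : Hom ((X.ten Y).ten Z) (X.ten (Y.ten Z))
  | lam (X : Obj A) : Hom (Obj.one.ten X) X
  | rho (X : Obj A) : Hom (X.ten .one) X
  | braid (X Y : Obj A) : Hom (X.ten Y) (Y.ten X)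
  | of {a b : A} (f : a ⟶ b) : Hom (.of a) (.of b)
  | eps : Hom .one (.of (𝟙_ A))
  | mu (a b : A) : Hom ((Obj.of a).ten (.of b)) (.of (a ⊗ b))
  | inval (X : Obj A) : Hom (X.ten X.neg) .one

/-- The relations. -/
inductive Rel : ∀ {X Y : Obj A}, Hom X Y → Hom X Y → Prop
  | refl {X Y : Obj A} (f : Hom X Y) : Rel f f
  | symm {X Y : Obj A} {f g : Hom X Y} : Rel f g → Rel g f
  | trans {X Y : Obj A} {f g h : Hom X Y} : Rel f g → Rel g h → Rel f h
  | comp {X Y Z : Obj A} {f f' : Hom X Y} {g g' : Hom Y Z} :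
      Rel f f' → Rel g g' → Rel (f.comp g) (f'.comp g')
  | sym {X Y : Obj A} {f f' : Hom X Y} : Rel f f' → Rel f.sym f'.sym
  | tens {W X Y Z : Obj A} {f f' : Hom W Y} {g g' : Hom X Z} :
      Rel f f' → Rel g g' → Rel (f.tens g) (f'.tens g')
  | id_comp {X Y : Obj A} (f : Hom X Y) : Rel ((Hom.id X).comp f) f
  | comp_id {X Y : Obj A} (f : Hom X Y) : Rel (f.comp (Hom.id Y)) f
  | assoc {W X Y Z : Obj A} (f : Hom W X) (g : Hom X Y) (h : Hom Y Z) :
      Rel ((f.comp g).comp h) (f.comp (g.comp h))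
  | comp_sym {X Y : Obj A} (f : Hom X Y) : Rel (f.comp f.sym) (Hom.id X)
  | sym_comp {X Y : Obj A} (f : Hom X Y) : Rel (f.sym.comp f) (Hom.id Y)
  | tens_id (X Y : Obj A) : Rel ((Hom.id X).tens (Hom.id Y)) (Hom.id (X.ten Y))
  | interchange {X₁ Y₁ Z₁ X₂ Y₂ Z₂ : Obj A} (f₁ : Hom X₁ Y₁) (f₂ : Hom X₂ Y₂)
      (g₁ : Hom Y₁ Z₁) (g₂ : Hom Y₂ Z₂) :
      Rel ((f₁.tens f₂).comp (g₁.tens g₂)) ((f₁.comp g₁).tens (f₂.comp g₂))
  | assoc_nat {X₁ X₂ X₃ Y₁ Y₂ Y₃ : Obj A} (f₁ : Hom X₁ Y₁) (f₂ : Hom X₂ Y₂) (f₃ : Hom X₃ Y₃) :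
      Rel (((f₁.tens f₂).tens f₃).comp (Hom.assoc Y₁ Y₂ Y₃))
        ((Hom.assoc X₁ X₂ X₃).comp (f₁.tens (f₂.tens f₃)))
  | lam_nat {X Y : Obj A} (f : Hom X Y) :
      Rel (((Hom.id Obj.one).tens f).comp (Hom.lam Y)) ((Hom.lam X).comp f)
  | rho_nat {X Y : Obj A} (f : Hom X Y) :
      Rel ((f.tens (Hom.id Obj.one)).comp (Hom.rho Y)) ((Hom.rho X).comp f)
  | pentagon (W X Y Z : Obj A) :
      Rel (((Hom.assoc W X Y).tens (Hom.id Z)).comp
          ((Hom.assoc W (X.ten Y) Z).comp ((Hom.id W).tens (Hom.assoc X Y Z))))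
        ((Hom.assoc (W.ten X) Y Z).comp (Hom.assoc W X (Y.ten Z)))
  | triangle (X Y : Obj A) :
      Rel ((Hom.assoc X .one Y).comp ((Hom.id X).tens (Hom.lam Y))) ((Hom.rho X).tens (Hom.id Y))
  | braid_nat {W X Y Z : Obj A} (f : Hom W Y) (g : Hom X Z) :
      Rel ((f.tens g).comp (Hom.braid Y Z)) ((Hom.braid W X).comp (g.tens f))
  | hexagon (X Y Z : Obj A) :
      Rel ((Hom.assoc X Y Z).comp ((Hom.braid X (Y.ten Z)).comp (Hom.assoc Y Z X)))
        (((Hom.braid X Y).tens (Hom.id Z)).comp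
          ((Hom.assoc Y X Z).comp ((Hom.id Y).tens (Hom.braid X Z))))
  | hexagon' (X Y Z : Obj A) :
      Rel ((Hom.assoc X Y Z).sym.comp ((Hom.braid (X.ten Y) Z).comp (Hom.assoc Z X Y).sym))
        (((Hom.id X).tens (Hom.braid Y Z)).comp
          ((Hom.assoc X Z Y).sym.comp ((Hom.braid X Z).tens (Hom.id Y))))
  | symmetry (X Y : Obj A) : Rel ((Hom.braid X Y).comp (Hom.braid Y X)) (Hom.id (X.ten Y))
  | of_id (a : A) : Rel (Hom.of (𝟙 a)) (Hom.id (Obj.of a))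
  | of_comp {a b c : A} (f : a ⟶ b) (g : b ⟶ c) :
      Rel (Hom.of (f ≫ g)) ((Hom.of f).comp (Hom.of g))
  | mu_nat_left {a b : A} (f : a ⟶ b) (c : A) :
      Rel (((Hom.of f).tens (Hom.id (Obj.of c))).comp (Hom.mu b c))
        ((Hom.mu a c).comp (Hom.of (f ▷ c)))
  | mu_nat_right {a b : A} (c : A) (f : a ⟶ b) :
      Rel (((Hom.id (Obj.of c)).tens (Hom.of f)).comp (Hom.mu c b))
        ((Hom.mu c a).comp (Hom.of (c ◁ f)))
  | mu_assoc (a b c : A) :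
      Rel (((Hom.mu a b).tens (Hom.id (Obj.of c))).comp
          ((Hom.mu (a ⊗ b) c).comp (Hom.of (α_ a b c).hom)))
        ((Hom.assoc (.of a) (.of b) (.of c)).comp
          (((Hom.id (Obj.of a)).tens (Hom.mu b c)).comp (Hom.mu a (b ⊗ c))))
  | mu_lam (a : A) :
      Rel (Hom.lam (.of a))
        ((Hom.eps.tens (Hom.id (Obj.of a))).comp ((Hom.mu (𝟙_ A) a).comp (Hom.of (λ_ a).hom)))
  | mu_rho (a : A) :
      Rel (Hom.rho (.of a))
        (((Hom.id (Obj.of a)).tens Hom.eps).comp ((Hom.mu a (𝟙_ A)).comp (Hom.of (ρ_ a).hom)))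
  | mu_braid (a b : A) :
      Rel ((Hom.mu a b).comp (Hom.of (β_ a b).hom))
        ((Hom.braid (.of a) (.of b)).comp (Hom.mu b a))

instance homSetoid (X Y : Obj A) : Setoid (Hom X Y) :=
  ⟨Rel, ⟨Rel.refl, Rel.symm, Rel.trans⟩⟩

instance category : Category.{max u v} (Obj A) where
  Hom X Y := Quotient (homSetoid X Y)
  id X := ⟦Hom.id X⟧
  comp := Quotient.map₂ Hom.comp fun _ _ hf _ _ hg => Rel.comp hf hg
  id_comp := by rintro X Y ⟨f⟩; exact Quotient.sound (Rel.id_comp f)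
  comp_id := by rintro X Y ⟨f⟩; exact Quotient.sound (Rel.comp_id f)
  assoc := by rintro W X Y Z ⟨f⟩ ⟨g⟩ ⟨h⟩; exact Quotient.sound (Rel.assoc f g h)

/-- The class of a formal morphism. -/
def mk {X Y : Obj A} (f : Hom X Y) : X ⟶ Y := ⟦f⟧

/-- A formal morphism as an isomorphism. -/
@[simps]
def isoMk {X Y : Obj A} (f : Hom X Y) : X ≅ Y where
  hom := mk f
  inv := mk f.sym
  hom_inv_id := Quotient.sound (Rel.comp_sym f)
  inv_hom_id := Quotient.sound (Rel.sym_comp f)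

instance isGroupoid : IsGroupoid (Obj A) where
  all_isIso := by rintro X Y ⟨f⟩; exact (isoMk f).isIso_hom

instance monoidal : MonoidalCategory (Obj A) where
  tensorObj := Obj.ten
  tensorUnit := Obj.one
  tensorHom := Quotient.map₂ Hom.tens fun _ _ hf _ _ hg => Rel.tens hf hg
  whiskerLeft X _ _ f := Quotient.map₂ Hom.tens (fun _ _ hf _ _ hg => Rel.tens hf hg) ⟦Hom.id X⟧ f
  whiskerRight f Y := Quotient.map₂ Hom.tens (fun _ _ hf _ _ hg => Rel.tens hf hg) f ⟦Hom.id Y⟧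
  associator X Y Z := isoMk (Hom.assoc X Y Z)
  leftUnitor X := isoMk (Hom.lam X)
  rightUnitor X := isoMk (Hom.rho X)
  tensorHom_def {X₁ Y₁ X₂ Y₂} := by
    rintro ⟨f⟩ ⟨g⟩
    exact Quotient.sound ((Rel.tens (Rel.comp_id f).symm (Rel.id_comp g).symm).trans
      (Rel.interchange _ _ _ _).symm)
  id_tensorHom_id X Y := Quotient.sound (Rel.tens_id X Y)
  tensorHom_comp_tensorHom {X₁ Y₁ Z₁ X₂ Y₂ Z₂} := by
    rintro ⟨f₁⟩ ⟨f₂⟩ ⟨g₁⟩ ⟨g₂⟩
    exact Quotient.sound (Rel.interchange _ _ _ _)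
  whiskerLeft_id X Y := Quotient.sound (Rel.tens_id X Y)
  id_whiskerRight X Y := Quotient.sound (Rel.tens_id X Y)
  associator_naturality {X₁ X₂ X₃ Y₁ Y₂ Y₃} := by
    rintro ⟨f₁⟩ ⟨f₂⟩ ⟨f₃⟩
    exact Quotient.sound (Rel.assoc_nat _ _ _)
  leftUnitor_naturality {X Y} := by rintro ⟨f⟩; exact Quotient.sound (Rel.lam_nat f)
  rightUnitor_naturality {X Y} := by rintro ⟨f⟩; exact Quotient.sound (Rel.rho_nat f)
  pentagon W X Y Z := Quotient.sound (Rel.pentagon W X Y Z)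
  triangle X Y := Quotient.sound (Rel.triangle X Y)

instance symmetric : SymmetricCategory (Obj A) where
  braiding X Y := isoMk (Hom.braid X Y)
  braiding_naturality_right X Y Z := by rintro ⟨f⟩; exact Quotient.sound (Rel.braid_nat _ _)
  braiding_naturality_left {X Y} := by rintro ⟨f⟩ Z; exact Quotient.sound (Rel.braid_nat _ _)
  hexagon_forward X Y Z := Quotient.sound (Rel.hexagon X Y Z)
  hexagon_reverse X Y Z := Quotient.sound (Rel.hexagon' X Y Z)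
  symmetry X Y := Quotient.sound (Rel.symmetry X Y)

variable (A) in
/-- The universal functor. -/
def unitFunctor : A ⥤ Obj A where
  obj := Obj.of
  map f := mk (Hom.of f)
  map_id a := Quotient.sound (Rel.of_id a)
  map_comp f g := Quotient.sound (Rel.of_comp f g)

variable (A) in
instance unitFunctorLaxBraided : (unitFunctor A).LaxBraided where
  ε := mk Hom.eps
  μ a b := mk (Hom.mu a b)
  μ_natural_left f c := Quotient.sound (Rel.mu_nat_left f c)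
  μ_natural_right c f := Quotient.sound (Rel.mu_nat_right c f)
  associativity a b c := Quotient.sound (Rel.mu_assoc a b c)
  left_unitality a := Quotient.sound (Rel.mu_lam a)
  right_unitality a := Quotient.sound (Rel.mu_rho a)
  braided a b := Quotient.sound (Rel.mu_braid a b)

/-- The inverse isomorphism. -/
def invIso (X : Obj A) : X ⊗ Obj.neg X ≅ 𝟙_ (Obj A) := isoMk (Hom.inval X)

/-- Tensoring is an equivalence. -/
theorem isEquivalence_tensor (X : Obj A) :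
    (tensorLeft X).IsEquivalence ∧ (tensorRight X).IsEquivalence := by
  have hl : (tensorLeft X).IsEquivalence :=
    let F := tensorLeft X
    let G := tensorLeft (Obj.neg X)
    (CategoryTheory.Equivalence.mk F G
      ((leftUnitorNatIso (Obj A)).symm ≪≫ (tensoringLeft (Obj A)).mapIso
        ((invIso X).symm ≪≫ β_ X (Obj.neg X)) ≪≫ tensorLeftTensor (Obj.neg X) X)
      ((tensorLeftTensor X (Obj.neg X)).symm ≪≫ (tensoringLeft (Obj A)).mapIso (invIso X) ≪≫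
        leftUnitorNatIso (Obj A))).isEquivalence_functor
  exact ⟨hl, Functor.isEquivalence_of_iso (BraidedCategory.tensorLeftIsoTensorRight X)⟩

section Universal

variable {P : Type u'} [Category.{v'} P] [MonoidalCategory P] [SymmetricCategory P] [IsGroupoid P]

section Lift

variable (hP : ∀ X : P, (tensorLeft X).IsEquivalence) (Φ : A ⥤ P) [Φ.LaxBraided]

include hP in
omit [SymmetricCategory P] [IsGroupoid P] in
theorem exists_inverse (x : P) : ∃ y : P, Nonempty (x ⊗ y ≅ 𝟙_ P) := by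
  have := hP x
  exact ⟨(tensorLeft x).objPreimage (𝟙_ P), ⟨(tensorLeft x).objObjPreimageIso (𝟙_ P)⟩⟩

/-- An inverse object. -/
noncomputable def negObj (x : P) : P := (exists_inverse hP x).choose

/-- The chosen isomorphism. -/
noncomputable def negIso (x : P) : x ⊗ negObj hP x ≅ 𝟙_ P :=
  (exists_inverse hP x).choose_spec.some

/-- Evaluation of objects. -/
noncomputable def objMap : Obj A → P
  | .of a => Φ.obj a
  | .one => 𝟙_ P
  | .ten X Y => objMap X ⊗ objMap Y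
  | .neg X => negObj hP (objMap X)

/-- Evaluation of formal morphisms. -/
noncomputable def homMap : ∀ {X Y : Obj A}, Hom X Y → (objMap hP Φ X ⟶ objMap hP Φ Y)
  | _, _, .id _ => 𝟙 _
  | _, _, .comp f g => homMap f ≫ homMap g
  | _, _, .sym f => inv (homMap f)
  | _, _, .tens f g => homMap f ⊗ₘ homMap g
  | _, _, .assoc _ _ _ => (α_ _ _ _).hom
  | _, _, .lam _ => (λ_ _).hom
  | _, _, .rho _ => (ρ_ _).hom
  | _, _, .braid _ _ => (β_ _ _).hom
  | _, _, .of f => Φ.map f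
  | _, _, .eps => ε Φ
  | _, _, .mu a b => μ Φ a b
  | _, _, .inval _ => (negIso hP _).hom

theorem homMap_rel {X Y : Obj A} {f g : Hom X Y} (h : Rel f g) :
    homMap hP Φ f = homMap hP Φ g := by
  induction h with
  | refl f => rfl
  | symm _ ih => exact ih.symm
  | trans _ _ ih ih' => exact ih.trans ih'
  | comp _ _ ih ih' => simp only [homMap]; rw [ih, ih']
  | sym _ ih => simp only [homMap, ih]
  | tens _ _ ih ih' => simp only [homMap]; rw [ih, ih']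
  | id_comp f => exact Category.id_comp _
  | comp_id f => exact Category.comp_id _
  | assoc f g h => exact Category.assoc _ _ _
  | comp_sym f => exact IsIso.hom_inv_id _
  | sym_comp f => exact IsIso.inv_hom_id _
  | tens_id X Y => exact id_tensorHom_id _ _
  | interchange f₁ f₂ g₁ g₂ => exact tensorHom_comp_tensorHom _ _ _ _
  | assoc_nat f₁ f₂ f₃ => exact associator_naturality _ _ _
  | lam_nat f => simp [homMap, objMap]
  | rho_nat f => simp [homMap, objMap]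
  | pentagon W X Y Z => simp [homMap, objMap, id_tensorHom, tensorHom_id]
  | triangle X Y => simp [homMap, objMap, id_tensorHom, tensorHom_id]
  | braid_nat f g => exact BraidedCategory.braiding_naturality _ _
  | hexagon X Y Z =>
      simp only [homMap, objMap, id_tensorHom, tensorHom_id]
      exact BraidedCategory.hexagon_forward _ _ _
  | hexagon' X Y Z =>
      simp only [homMap, objMap, id_tensorHom, tensorHom_id, IsIso.Iso.inv_hom]
      exact BraidedCategory.hexagon_reverse _ _ _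
  | symmetry X Y => exact SymmetricCategory.symmetry _ _
  | of_id a => exact Φ.map_id a
  | of_comp f g => exact Φ.map_comp f g
  | mu_nat_left f c =>
      simp only [homMap, objMap, tensorHom_id]
      exact μ_natural_left Φ f c
  | mu_nat_right c f =>
      simp only [homMap, objMap, id_tensorHom]
      exact μ_natural_right Φ c f
  | mu_assoc a b c =>
      simp only [homMap, objMap, id_tensorHom, tensorHom_id]
      exact associativity Φ a b c
  | mu_lam a =>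
      simp only [homMap, objMap, tensorHom_id]
      exact left_unitality Φ a
  | mu_rho a =>
      simp only [homMap, objMap, id_tensorHom]
      exact right_unitality Φ a
  | mu_braid a b =>
      simp only [homMap, objMap]
      exact Functor.LaxBraided.braided a b

/-- The induced functor. -/
noncomputable def lift : Obj A ⥤ P where
  obj := objMap hP Φ
  map := Quotient.lift (homMap hP Φ) fun _ _ h => homMap_rel hP Φ h
  map_id _ := rfl
  map_comp := by rintro X Y Z ⟨f⟩ ⟨g⟩; rfl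

noncomputable instance liftLaxBraided : (lift hP Φ).LaxBraided where
  ε := 𝟙 (𝟙_ P)
  μ X Y := 𝟙 (objMap hP Φ X ⊗ objMap hP Φ Y)
  μ_natural_left := by
    rintro X Y ⟨f⟩ Z
    exact (Category.comp_id _).trans ((tensorHom_id _ _).symm.trans (Category.id_comp _).symm)
  μ_natural_right := by
    rintro X Y Z ⟨f⟩
    exact (Category.comp_id _).trans ((id_tensorHom _ _).symm.trans (Category.id_comp _).symm)
  associativity X Y Z := by
    show 𝟙 _ ▷ _ ≫ 𝟙 _ ≫ (α_ _ _ _).hom = (α_ _ _ _).hom ≫ _ ◁ 𝟙 _ ≫ 𝟙 _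
    simp
  left_unitality X := by
    show (λ_ _).hom = 𝟙 _ ▷ _ ≫ 𝟙 _ ≫ (λ_ _).hom
    simp
  right_unitality X := by
    show (ρ_ _).hom = _ ◁ 𝟙 _ ≫ 𝟙 _ ≫ (ρ_ _).hom
    simp
  braided X Y := by
    show 𝟙 _ ≫ (β_ _ _).hom = (β_ _ _).hom ≫ 𝟙 _
    simp

/-- The factorisation. -/
noncomputable def liftIso : unitFunctor A ⋙ lift hP Φ ≅ Φ :=
  NatIso.ofComponents (fun a => Iso.refl _) fun f =>
    (Category.comp_id _).trans (Category.id_comp _).symm

theorem liftIso_isMonoidal : NatTrans.IsMonoidal (liftIso hP Φ).hom where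
  unit := by
    show (𝟙 _ ≫ ε Φ) ≫ 𝟙 _ = ε Φ
    simp
  tensor a b := by
    show (𝟙 _ ≫ μ Φ a b) ≫ 𝟙 _ = (𝟙 _ ⊗ₘ 𝟙 _) ≫ μ Φ a b
    simp

end Lift

section Unique

variable (hP : ∀ X : P, (tensorLeft X).IsEquivalence) (Ψ Ψ' : Obj A ⥤ P) [Ψ.LaxBraided]
  [Ψ'.LaxBraided] (τ : unitFunctor A ⋙ Ψ ⟶ unitFunctor A ⋙ Ψ')

/-- The component forced at an inverse object. -/
noncomputable def negComp (X : Obj A) (z : Ψ.obj X ⟶ Ψ'.obj X)
    (t : Ψ.obj (𝟙_ (Obj A)) ⟶ Ψ'.obj (𝟙_ (Obj A))) :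
    Ψ.obj (Obj.neg X) ⟶ Ψ'.obj (Obj.neg X) :=
  haveI := hP (Ψ'.obj X)
  (tensorLeft (Ψ'.obj X)).preimage (inv (z ▷ Ψ.obj (Obj.neg X)) ≫ μ Ψ X (Obj.neg X) ≫
    Ψ.map (invIso X).hom ≫ t ≫ inv (μ Ψ' X (Obj.neg X) ≫ Ψ'.map (invIso X).hom))

theorem negComp_spec (X : Obj A) (z : Ψ.obj X ⟶ Ψ'.obj X)
    (t : Ψ.obj (𝟙_ (Obj A)) ⟶ Ψ'.obj (𝟙_ (Obj A))) :
    (z ⊗ₘ negComp hP Ψ Ψ' X z t) ≫ μ Ψ' X (Obj.neg X) ≫ Ψ'.map (invIso X).hom =
      μ Ψ X (Obj.neg X) ≫ Ψ.map (invIso X).hom ≫ t := by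
  have := hP (Ψ'.obj X)
  have h : Ψ'.obj X ◁ negComp hP Ψ Ψ' X z t = _ :=
    (tensorLeft (Ψ'.obj X)).map_preimage _
  rw [MonoidalCategory.tensorHom_def, h]
  simp

/-- The components of the unique extension. -/
noncomputable def comp' : ∀ X : Obj A, Ψ.obj X ⟶ Ψ'.obj X
  | .of a => τ.app a
  | .one => inv (ε Ψ) ≫ ε Ψ'
  | .ten X Y => inv (μ Ψ X Y) ≫ (comp' X ⊗ₘ comp' Y) ≫ μ Ψ' X Y
  | .neg X => negComp hP Ψ Ψ' X (comp' X) (inv (ε Ψ) ≫ ε Ψ')

theorem comp'_ten (X Y : Obj A) :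
    μ Ψ X Y ≫ comp' hP Ψ Ψ' τ (X ⊗ Y) =
      (comp' hP Ψ Ψ' τ X ⊗ₘ comp' hP Ψ Ψ' τ Y) ≫ μ Ψ' X Y := by
  show μ Ψ X Y ≫ comp' hP Ψ Ψ' τ (Obj.ten X Y) = _
  rw [comp']
  exact IsIso.hom_inv_id_assoc (μ Ψ X Y) _

theorem comp'_one : ε Ψ ≫ comp' hP Ψ Ψ' τ (𝟙_ (Obj A)) = ε Ψ' := by
  show ε Ψ ≫ comp' hP Ψ Ψ' τ Obj.one = _
  rw [comp']
  exact IsIso.hom_inv_id_assoc (ε Ψ) _

theorem comp'_natural (hτ : NatTrans.IsMonoidal τ) {X Y : Obj A} (f : Hom X Y) :
    Ψ.map (mk f) ≫ comp' hP Ψ Ψ' τ Y = comp' hP Ψ Ψ' τ X ≫ Ψ'.map (mk f) := by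
  induction f with
  | id X =>
      show Ψ.map (𝟙 X) ≫ _ = _ ≫ Ψ'.map (𝟙 X)
      simp
  | @comp X Y Z f g ihf ihg =>
      show Ψ.map (mk f ≫ mk g) ≫ _ = _ ≫ Ψ'.map (mk f ≫ mk g)
      simp only [Functor.map_comp, Category.assoc, ihg, reassoc_of% ihf]
  | @sym X Y f ih =>
      show Ψ.map (isoMk f).inv ≫ _ = _ ≫ Ψ'.map (isoMk f).inv
      rw [← cancel_epi (Ψ.map (isoMk f).hom), ← Functor.map_comp_assoc, Iso.hom_inv_id,
        CategoryTheory.Functor.map_id, Category.id_comp, ← Category.assoc,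
        show Ψ.map (isoMk f).hom ≫ _ = _ from ih, Category.assoc]
      simp only [← isoMk_hom, ← Functor.map_comp, Iso.hom_inv_id, CategoryTheory.Functor.map_id, Category.comp_id]
  | @tens W X Y Z f g ihf ihg =>
      show Ψ.map (mk f ⊗ₘ mk g) ≫ comp' hP Ψ Ψ' τ (Y ⊗ Z) =
        comp' hP Ψ Ψ' τ (W ⊗ X) ≫ Ψ'.map (mk f ⊗ₘ mk g)
      rw [← cancel_epi (μ Ψ W X), ← μ_natural_assoc, comp'_ten, ← Category.assoc, ← Category.assoc,
        comp'_ten, tensorHom_comp_tensorHom, ihf, ihg, ← tensorHom_comp_tensorHom, Category.assoc,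
        Category.assoc, μ_natural]
  | assoc X Y Z =>
      show Ψ.map (α_ X Y Z).hom ≫ comp' hP Ψ Ψ' τ (X ⊗ Y ⊗ Z) =
        comp' hP Ψ Ψ' τ ((X ⊗ Y) ⊗ Z) ≫ Ψ'.map (α_ X Y Z).hom
      rw [← cancel_epi (μ Ψ X Y ▷ Ψ.obj Z ≫ μ Ψ (X ⊗ Y) Z)]
      have h1 : μ Ψ X Y ▷ Ψ.obj Z ≫ μ Ψ (X ⊗ Y) Z ≫ comp' hP Ψ Ψ' τ ((X ⊗ Y) ⊗ Z) =
          ((comp' hP Ψ Ψ' τ X ⊗ₘ comp' hP Ψ Ψ' τ Y) ⊗ₘ comp' hP Ψ Ψ' τ Z) ≫
            μ Ψ' X Y ▷ Ψ'.obj Z ≫ μ Ψ' (X ⊗ Y) Z := by
        rw [comp'_ten, ← tensorHom_id, tensorHom_comp_tensorHom_assoc, Category.id_comp,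
          comp'_ten, ← tensorHom_id, tensorHom_comp_tensorHom_assoc, Category.comp_id]
      have h2 : Ψ.obj X ◁ μ Ψ Y Z ≫ μ Ψ X (Y ⊗ Z) ≫ comp' hP Ψ Ψ' τ (X ⊗ Y ⊗ Z) =
          (comp' hP Ψ Ψ' τ X ⊗ₘ comp' hP Ψ Ψ' τ Y ⊗ₘ comp' hP Ψ Ψ' τ Z) ≫
            Ψ'.obj X ◁ μ Ψ' Y Z ≫ μ Ψ' X (Y ⊗ Z) := by
        rw [comp'_ten, ← id_tensorHom, tensorHom_comp_tensorHom_assoc, Category.id_comp,
          comp'_ten, ← id_tensorHom, tensorHom_comp_tensorHom_assoc, Category.comp_id]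
      simp only [Category.assoc]
      rw [reassoc_of% (associativity Ψ X Y Z), h2, reassoc_of% h1]
      rw [associativity Ψ' X Y Z, associator_naturality_assoc]
  | lam X =>
      show Ψ.map (λ_ X).hom ≫ comp' hP Ψ Ψ' τ X =
        comp' hP Ψ Ψ' τ (𝟙_ (Obj A) ⊗ X) ≫ Ψ'.map (λ_ X).hom
      rw [← cancel_epi (ε Ψ ▷ Ψ.obj X ≫ μ Ψ (𝟙_ (Obj A)) X)]
      simp only [Category.assoc]
      rw [← reassoc_of% (left_unitality Ψ X), reassoc_of% (comp'_ten hP Ψ Ψ' τ (𝟙_ (Obj A)) X),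
        ← tensorHom_id, tensorHom_comp_tensorHom_assoc, Category.id_comp, comp'_one,
        tensorHom_def', Category.assoc, ← left_unitality, leftUnitor_naturality]
  | rho X =>
      show Ψ.map (ρ_ X).hom ≫ comp' hP Ψ Ψ' τ X =
        comp' hP Ψ Ψ' τ (X ⊗ 𝟙_ (Obj A)) ≫ Ψ'.map (ρ_ X).hom
      rw [← cancel_epi (Ψ.obj X ◁ ε Ψ ≫ μ Ψ X (𝟙_ (Obj A)))]
      simp only [Category.assoc]
      rw [← reassoc_of% (right_unitality Ψ X), reassoc_of% (comp'_ten hP Ψ Ψ' τ X (𝟙_ (Obj A))),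
        ← id_tensorHom, tensorHom_comp_tensorHom_assoc, Category.id_comp, comp'_one,
        MonoidalCategory.tensorHom_def, Category.assoc, ← right_unitality, rightUnitor_naturality]
  | braid X Y =>
      show Ψ.map (β_ X Y).hom ≫ comp' hP Ψ Ψ' τ (Y ⊗ X) =
        comp' hP Ψ Ψ' τ (X ⊗ Y) ≫ Ψ'.map (β_ X Y).hom
      rw [← cancel_epi (μ Ψ X Y), reassoc_of% (Functor.LaxBraided.braided (F := Ψ) X Y), comp'_ten,
        reassoc_of% (comp'_ten hP Ψ Ψ' τ X Y), Functor.LaxBraided.braided (F := Ψ') X Y,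
        BraidedCategory.braiding_naturality_assoc]
  | @of a b f =>
      show Ψ.map ((unitFunctor A).map f) ≫ comp' hP Ψ Ψ' τ (Obj.of b) =
        comp' hP Ψ Ψ' τ (Obj.of a) ≫ Ψ'.map ((unitFunctor A).map f)
      simp only [comp']
      exact τ.naturality f
  | eps =>
      show Ψ.map (ε (unitFunctor A)) ≫ comp' hP Ψ Ψ' τ (Obj.of (𝟙_ A)) =
        comp' hP Ψ Ψ' τ (𝟙_ (Obj A)) ≫ Ψ'.map (ε (unitFunctor A))
      apply (cancel_epi (ε Ψ)).mp
      refine Eq.trans ?_ ((congrArg (· ≫ Ψ'.map (ε (unitFunctor A)))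
        (comp'_one hP Ψ Ψ' τ)).symm.trans (Category.assoc _ _ _))
      simp only [comp']
      exact (Category.assoc _ _ _).symm.trans hτ.unit
  | mu a b =>
      show Ψ.map (μ (unitFunctor A) a b) ≫ comp' hP Ψ Ψ' τ (Obj.of (a ⊗ b)) =
        comp' hP Ψ Ψ' τ (Obj.of a ⊗ Obj.of b) ≫ Ψ'.map (μ (unitFunctor A) a b)
      apply (cancel_epi (μ Ψ (Obj.of a) (Obj.of b))).mp
      refine Eq.trans ?_ ((congrArg (· ≫ Ψ'.map (μ (unitFunctor A) a b))
        (comp'_ten hP Ψ Ψ' τ (Obj.of a) (Obj.of b))).symm.trans (Category.assoc _ _ _))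
      simp only [comp']
      refine Eq.trans ?_ (Category.assoc _ _ _).symm
      exact ((Category.assoc _ _ _).symm.trans (hτ.tensor a b))
  | inval X =>
      show Ψ.map (invIso X).hom ≫ comp' hP Ψ Ψ' τ (𝟙_ (Obj A)) =
        comp' hP Ψ Ψ' τ (X ⊗ Obj.neg X) ≫ Ψ'.map (invIso X).hom
      rw [← cancel_epi (μ Ψ X (Obj.neg X)), reassoc_of% (comp'_ten hP Ψ Ψ' τ X (Obj.neg X))]
      show _ = (comp' hP Ψ Ψ' τ X ⊗ₘ comp' hP Ψ Ψ' τ (Obj.neg X)) ≫ _
      conv_rhs => rw [comp', negComp_spec]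
      show _ ≫ _ ≫ comp' hP Ψ Ψ' τ Obj.one = _
      rw [comp']

/-- The extension. -/
noncomputable def ext' (hτ : NatTrans.IsMonoidal τ) : Ψ ⟶ Ψ' where
  app := comp' hP Ψ Ψ' τ
  naturality := by rintro X Y ⟨f⟩; exact comp'_natural hP Ψ Ψ' τ hτ f

include hP in
theorem existsUnique_ext (hτ : NatTrans.IsMonoidal τ) :
    ∃! θ : Ψ ⟶ Ψ', NatTrans.IsMonoidal θ ∧ Functor.whiskerLeft (unitFunctor A) θ = τ := by
  refine ⟨ext' hP Ψ Ψ' τ hτ, ⟨⟨comp'_one hP Ψ Ψ' τ, comp'_ten hP Ψ Ψ' τ⟩, ?_⟩, ?_⟩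
  · ext a
    show comp' hP Ψ Ψ' τ (Obj.of a) = τ.app a
    rw [comp']
  · rintro θ ⟨hθ, hw⟩
    ext X
    show θ.app X = comp' hP Ψ Ψ' τ X
    have h1 : θ.app Obj.one = inv (ε Ψ) ≫ ε Ψ' :=
      (IsIso.eq_inv_comp (ε Ψ)).mpr hθ.unit
    induction X with
    | of a => rw [comp', ← hw]; rfl
    | one => rw [comp']; exact h1
    | ten X Y ihX ihY =>
        rw [comp', ← ihX, ← ihY]
        exact (IsIso.eq_inv_comp (μ Ψ X Y)).mpr (hθ.tensor X Y)
    | neg X ih =>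
        rw [comp', ← ih, ← h1]
        have hs := negComp_spec hP Ψ Ψ' X (θ.app X) (θ.app (𝟙_ (Obj A)))
        have h2 : (θ.app X ⊗ₘ θ.app (Obj.neg X)) ≫ μ Ψ' X (Obj.neg X) ≫ Ψ'.map (invIso X).hom =
            μ Ψ X (Obj.neg X) ≫ Ψ.map (invIso X).hom ≫ θ.app (𝟙_ (Obj A)) := by
          rw [θ.naturality, reassoc_of% (hθ.tensor X (Obj.neg X))]
        have h3 := h2.trans hs.symm
        rw [cancel_mono, MonoidalCategory.tensorHom_def, MonoidalCategory.tensorHom_def, cancel_epi] at h3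
        have := hP (Ψ'.obj X)
        exact (tensorLeft (Ψ'.obj X)).map_injective h3

end Unique

end Universal

end Groth.Agent.Picardification
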